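import Cfsg.Agent.OD.Pre
import Cfsg.Agent.H6.Top2
import Cfsg.Agent.H6.U6A.D0
set_option autoImplicit false
set_option maxRecDepth 100000
set_option Elab.async false
set_option linter.all false
namespace CfH6.U6A
open CfH6 MulAction
noncomputable def n0_0 : Net := mkNet (nat_lit 8192) [(nat_lit 4096, k0), (nat_lit 2048, k1), (nat_lit 1024, k2), (nat_lit 512, k3), (nat_lit 256, k4), (nat_lit 128, k5), (nat_lit 64, k6), (nat_lit 32, k7), (nat_lit 16, k8), (nat_lit 8, k9), (nat_lit 4, k10), (nat_lit 2, k11)] [(k12, nat_lit 1)]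
noncomputable def n0_1 : Net := mkNet (nat_lit 8192) [(nat_lit 4096, k13), (nat_lit 2048, k14), (nat_lit 1024, k15), (nat_lit 512, k16), (nat_lit 256, k17), (nat_lit 128, k18), (nat_lit 64, k19), (nat_lit 32, k20), (nat_lit 16, k21), (nat_lit 8, k22), (nat_lit 4, k23), (nat_lit 2, k24)] [(k25, nat_lit 1)]
noncomputable def n0_2 : Net := mkNet (nat_lit 8192) [(nat_lit 4096, k26), (nat_lit 2048, k27), (nat_lit 1024, k28), (nat_lit 512, k29), (nat_lit 256, k30), (nat_lit 128, k31), (nat_lit 64, k32), (nat_lit 32, k33), (nat_lit 16, k34), (nat_lit 8, k35), (nat_lit 4, k36), (nat_lit 2, k37)] [(k38, nat_lit 1)]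
noncomputable def n0_3 : Net := mkNet (nat_lit 8192) [(nat_lit 4096, k39), (nat_lit 2048, k40), (nat_lit 1024, k41), (nat_lit 512, k42), (nat_lit 256, k43), (nat_lit 128, k44), (nat_lit 64, k45), (nat_lit 32, k46), (nat_lit 16, k47), (nat_lit 8, k48), (nat_lit 4, k49), (nat_lit 2, k50)] [(k51, nat_lit 1)]
noncomputable def n0_4 : Net := mkNet (nat_lit 8192) [(nat_lit 4096, k52), (nat_lit 2048, k53), (nat_lit 1024, k54), (nat_lit 512, k55), (nat_lit 256, k56), (nat_lit 128, k57), (nat_lit 64, k58), (nat_lit 32, k59), (nat_lit 16, k60), (nat_lit 8, k61), (nat_lit 4, k62), (nat_lit 2, k63)] [(k64, nat_lit 1)]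
noncomputable def n0_5 : Net := mkNet (nat_lit 8192) [(nat_lit 4096, k65), (nat_lit 2048, k66), (nat_lit 1024, k67), (nat_lit 512, k68), (nat_lit 256, k69), (nat_lit 128, k70), (nat_lit 64, k71), (nat_lit 32, k72), (nat_lit 16, k73), (nat_lit 8, k74), (nat_lit 4, k75), (nat_lit 2, k76)] [(k77, nat_lit 1)]
noncomputable def n0_6 : Net := mkNet (nat_lit 8192) [(nat_lit 4096, k78), (nat_lit 2048, k79), (nat_lit 1024, k80), (nat_lit 512, k81), (nat_lit 256, k82), (nat_lit 128, k83), (nat_lit 64, k84), (nat_lit 32, k85), (nat_lit 16, k86), (nat_lit 8, k87), (nat_lit 4, k88), (nat_lit 2, k89)] [(k90, nat_lit 1)]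
noncomputable def n0_7 : Net := mkNet (nat_lit 8192) [(nat_lit 4096, k91), (nat_lit 2048, k92), (nat_lit 1024, k93), (nat_lit 512, k94), (nat_lit 256, k95), (nat_lit 128, k96), (nat_lit 64, k97), (nat_lit 32, k98), (nat_lit 16, k99), (nat_lit 8, k100), (nat_lit 4, k101), (nat_lit 2, k102)] [(k103, nat_lit 1)]
noncomputable def n2_0 : Net := mkNet (nat_lit 64) [(nat_lit 32, (nat_lit 0x7610012076100120)), (nat_lit 16, (nat_lit 0x5700050070047004)), (nat_lit 8, (nat_lit 0x525228281010c0c0)), (nat_lit 4, (nat_lit 0x542260f0aa004466)), (nat_lit 2, (nat_lit 0xa0e04a00000004c8))] [((nat_lit 0x4040145541550050), nat_lit 1)]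
noncomputable def n2_1 : Net := mkNet (nat_lit 64) [(nat_lit 32, (nat_lit 0xde440000de44000)), (nat_lit 16, (nat_lit 0x1dc518c043504350)), (nat_lit 8, (nat_lit 0x1514d9d8f0f04040)), (nat_lit 4, (nat_lit 0x66c40000f08800)), (nat_lit 2, (nat_lit 0x40a0a8c408208c0))] [((nat_lit 0x14140001111004), nat_lit 1)]
noncomputable def n2_2 : Net := mkNet (nat_lit 64) [(nat_lit 32, (nat_lit 0x6020000060200000)), (nat_lit 16, (nat_lit 0x6464646402c802c8)), (nat_lit 8, (nat_lit 0x424290908080f0e0)), (nat_lit 4, (nat_lit 0x60000088c41ccc2c)), (nat_lit 2, (nat_lit 0xaaa4088c404e0c82))] [((nat_lit 0x4440500501410544), nat_lit 1)]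
noncomputable def n2_3 : Net := mkNet (nat_lit 64) [(nat_lit 32, (nat_lit 0)), (nat_lit 16, (nat_lit 0xfc00fc0)), (nat_lit 8, (nat_lit 0x90904242e2e2)), (nat_lit 4, (nat_lit 0xee1600547800)), (nat_lit 2, (nat_lit 0xac4e40a028a8))] [((nat_lit 0x101401401140), nat_lit 1)]
noncomputable def n3_0 : Net := mkNet (nat_lit 12) [(nat_lit 6, (nat_lit 0xaaa)), (nat_lit 3, (nat_lit 0xa12))] [((nat_lit 0x8), nat_lit 1), ((nat_lit 0x2), nat_lit 1)]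
noncomputable def n3_1 : Net := mkNet (nat_lit 12) [(nat_lit 6, (nat_lit 0x492)), (nat_lit 3, (nat_lit 0))] [((nat_lit 0x248), nat_lit 1), ((nat_lit 0x92), nat_lit 1), ((nat_lit 0x48), nat_lit 1)]
noncomputable def n3_2 : Net := mkNet (nat_lit 12) [(nat_lit 6, (nat_lit 0xc30)), (nat_lit 3, (nat_lit 0xe24))] [((nat_lit 0x208), nat_lit 1), ((nat_lit 0x490), nat_lit 1), ((nat_lit 0x48), nat_lit 1)]
noncomputable def nets0 : List Net := [n0_0, n0_1, n0_2, n0_3, n0_4, n0_5, n0_6, n0_7]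
noncomputable def nets1 : List Net := [n0_0, n0_1, n0_2, n0_3, n0_4, n0_5, n0_6]
def ws1 : List (List ℕ) := [[0],
  [1],
  [2],
  [3],
  [4],
  [5],
  [6]]
noncomputable def nets2 : List Net := [n2_0, n2_1, n2_2, n2_3]
def ws2 : List (List ℕ) := [[1, 3, 2, 1, 0, 5, 1, 0, 2, 1, 3, 2, 4, 3, 2, 0, 1, 5, 0, 1, 2, 3, 2, 1],
  [3, 4, 5, 6, 2, 3, 5],
  [1, 6, 0, 2, 1],
  [2]]
noncomputable def nets3 : List Net := [n3_0, n3_1, n3_2]
def ws3 : List (List ℕ) := [[2, 3, 2, 2, 2],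
  [0, 2, 0, 2, 0],
  [1]]
def sig : List (List ℕ) := [[0],
  [1],
  [2],
  [3],
  [4],
  [5],
  [6],
  [7]]
def eqs0 : List (List ℕ × List ℕ) := [([0, 0], []),
  ([1, 1], []),
  ([2, 2], []),
  ([3, 3], []),
  ([4, 4], []),
  ([5, 5], []),
  ([6, 6], []),
  ([7, 7], []),
  ([0, 1, 0], [1, 0, 1]),
  ([0, 2], [2, 0]),
  ([0, 3], [3, 0]),
  ([0, 4], [4, 0]),
  ([0, 5], [5, 0]),
  ([0, 6], [6, 0]),
  ([0, 7], [7, 0]),
  ([1, 2, 1], [2, 1, 2]),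
  ([1, 3], [3, 1]),
  ([1, 4], [4, 1]),
  ([1, 5, 1], [5, 1, 5]),
  ([1, 6], [6, 1]),
  ([1, 7], [7, 1]),
  ([2, 3, 2], [3, 2, 3]),
  ([2, 4], [4, 2]),
  ([2, 5], [5, 2]),
  ([2, 6], [6, 2]),
  ([2, 7], [7, 2]),
  ([3, 4, 3], [4, 3, 4]),
  ([3, 5], [5, 3]),
  ([3, 6], [6, 3]),
  ([3, 7, 3], [7, 3, 7]),
  ([4, 5], [5, 4]),
  ([4, 6], [6, 4]),
  ([4, 7], [7, 4]),
  ([5, 6, 5], [6, 5, 6]),
  ([5, 7], [7, 5]),
  ([6, 7, 6], [7, 6, 7]),
  ([1, 2, 3, 7, 6, 5, 6, 7, 3, 2, 1, 2, 3, 7, 6], [2, 3, 7, 6, 5, 6, 7, 3, 2, 1, 2, 3, 7, 6, 5]),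
  ([1, 2, 3, 7, 6, 5, 1, 2, 3, 7, 6, 5, 1, 2, 3], [5, 6, 7, 3, 2, 1, 5, 6, 7, 3, 2, 1, 5, 6, 7]),
  ([0, 1, 2, 3, 4, 5, 6, 0, 1, 2, 3, 4, 5, 6, 0, 1, 2, 3, 4, 5, 6, 0, 1, 2, 3, 4, 5, 6, 0, 1, 2, 3], [6, 5, 4, 3, 2, 1, 0, 6, 5, 4, 3, 2, 1, 0, 6, 5, 4, 3, 2, 1, 0, 6, 5, 4, 3, 2, 1, 0, 6, 5, 4]),
  ([7, 3, 1, 2, 4, 5, 7, 3, 1, 2, 4, 5, 7, 3, 1], [5, 4, 2, 1, 3, 7, 5, 4, 2, 1, 3, 7, 5, 4, 2]),
  ([0, 1, 7, 2, 6, 5, 0, 1, 7, 2, 6, 5, 0, 1, 7], [5, 6, 2, 7, 1, 0, 5, 6, 2, 7, 1, 0, 5, 6, 2])]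
def eqs : List (List ℕ × List ℕ) := eqs0
def lU : List (ℕ × ℕ) := [(0, 11), (12, 39), (64, 6286)]
noncomputable def U : ℕ := ivls lU
def l1 : List (ℕ × ℕ) := [(1, 9), (12, 39), (64, 267)]
noncomputable def S1 : ℕ := ivls l1
def w1 : List ℕ := [7]
def l2 : List (ℕ × ℕ) := [(331, 2240)]
noncomputable def S2 : ℕ := ivls l2
def w2 : List ℕ := [7, 6, 3, 7]
def l3 : List (ℕ × ℕ) := [(10, 1), (2571, 3779)]
noncomputable def S3 : ℕ := ivls l3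
def w3 : List ℕ := [7, 6, 3, 4, 2, 3, 7]
noncomputable def J : List (List ℕ × ℕ × ℕ) := [(w1, 64, S1), (w2, 331, S2), (w3, 10, S3)]
def lBig : List (ℕ × ℕ) := [(10, 1), (2571, 3779)]
noncomputable def J3 : List (List ℕ × ℕ × ℕ) := [([0], 10, S3)]
noncomputable def J2 : List (List ℕ × ℕ × ℕ) := [([0, 5, 0, 3, 0], 10, S3)]
noncomputable def J1 : List (List ℕ × ℕ × ℕ) := [([0, 7, 4, 5, 3, 4, 0], 10, S3)]
def ex : List (List ℕ) := [[6, 2, 7, 5, 1, 5, 4, 0, 3]]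
def bs' : List ℕ := [0, 10, 1, 2]
end CfH6.U6A
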